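import Mathlib
import Cfsg.Prelude.Def_Characters
import Cfsg.Prelude.Def_Blocks
import Cfsg.Agent.Lib.Helper75.CliffordCorr2
import Cfsg.Agent.Lib.Helper82.CliffordInd
import Cfsg.Agent.Lib.Helper15.LinIrr
import Cfsg.Agent.Lib.Helper15.DetChar
import Cfsg.Agent.Lib.Helper80.CharKer

/-!
# Isaacs, Theorem 12.4 (abelian complement version) (helper80)

Let `K ≤ N` be normal subgroups of `G` with `N / K` and `G / N` abelian, of coprime orders, such
that every `g ∉ N` acts fixed point freely on `N / K`.  For `ψ ∈ Irr(N)`, either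
`|G : N| ψ(1)` is an irreducible character degree of `G`, or `ψ λ = ψ` for every linear
character `λ` of `N / K`; in the second case `ψ` vanishes on `N ∖ K` and, if `N / K` is a
nontrivial `p`-group, `p ∣ ψ(1)`.
-/

set_option autoImplicit false
set_option linter.unusedSectionVars false
set_option linter.style.haveILetI false

namespace Cfsg.Agent.Lib.Helper80.ThreeDeg

open Cfsg.Agent.Lib.Helper3 Cfsg.Agent.Lib.Helper75

universe u

variable {G : Type u} [Group G] (N : Subgroup G) [hN : N.Normal]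

/-- conjugation by `g` on the normal subgroup `N` -/
def cj (g : G) (n : N) : N := ⟨g * n * g⁻¹, hN.conj_mem n n.2 g⟩

theorem cj_coe (g : G) (n : N) : ((cj N g n : N) : G) = g * n * g⁻¹ := rfl

theorem cj_mul (g h : G) (n : N) : cj N (g * h) n = cj N g (cj N h n) :=
  Subtype.ext (by simp [cj, mul_assoc])

theorem cj_one (n : N) : cj N 1 n = n := Subtype.ext (by simp [cj])

/-- conjugation as an endomorphism of `N` -/
def cjHom (g : G) : N →* N where
  toFun := cj N g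
  map_one' := Subtype.ext (by simp [cj])
  map_mul' a b := Subtype.ext (by simp [cj, mul_assoc])

theorem cjHom_apply (g : G) (n : N) : cjHom N g n = cj N g n := rfl

theorem cj_of_mem {θ : N → ℂ} (hθ : Cfsg.IsClassFunction N θ) {c : G} (hc : c ∈ N) (n : N) :
    θ (cj N c n) = θ n := by
  have h := hθ n ⟨c, hc⟩
  have e : cj N c n = ⟨c, hc⟩ * n * (⟨c, hc⟩ : N)⁻¹ := Subtype.ext rfl
  rw [e]
  exact h

/-- The key pointwise lemma. -/
theorem kl [Finite G] (K : Subgroup G) [hK : K.Normal]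
    (hfpf : ∀ g : G, g ∉ N → ∀ n ∈ N, g * n * g⁻¹ * n⁻¹ ∈ K → n ∈ K)
    (hcop : N.index.Coprime (K.relIndex N))
    (g : G) (hg : g ∉ N) (θ : N → ℂ) (hθ : ∀ n : N, θ (cj N g n) = θ n)
    (ν : N →* ℂˣ) (hνK : ∀ n : N, (n : G) ∈ K → ν n = 1)
    (hν : ∀ n : N, θ n ≠ 0 → ν (cj N g n) = ν n) :
    ∀ n : N, θ n ≠ 0 → ν n = 1 := by
  intro n hn
  -- Step 1
  have h1 : ∀ j : ℕ, θ (cj N (g ^ j) n) ≠ 0 ∧ ν (cj N (g ^ j) n) = ν n := by
    intro j
    induction j with
    | zero => rw [pow_zero, cj_one]; exact ⟨hn, rfl⟩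
    | succ j ih =>
      have e : cj N (g ^ (j + 1)) n = cj N g (cj N (g ^ j) n) := by rw [pow_succ', cj_mul]
      rw [e]
      exact ⟨by rw [hθ]; exact ih.1, by rw [hν _ ih.1]; exact ih.2⟩
  -- Step 2
  have hQ : ∀ k : ℕ, ∃ h : ((n : G) * g) ^ k * (g ^ k)⁻¹ ∈ N,
      ν ⟨((n : G) * g) ^ k * (g ^ k)⁻¹, h⟩ = ν n ^ k := by
    intro k
    induction k with
    | zero =>
      refine ⟨by simp, ?_⟩
      have e : (⟨((n : G) * g) ^ 0 * (g ^ 0)⁻¹, by simp⟩ : N) = 1 := Subtype.ext (by simp)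
      rw [e, map_one, pow_zero]
    | succ k ih =>
      obtain ⟨hk, hνk⟩ := ih
      have e : ((n : G) * g) ^ (k + 1) * (g ^ (k + 1))⁻¹ =
          (((n : G) * g) ^ k * (g ^ k)⁻¹) * (g ^ k * (n : G) * (g ^ k)⁻¹) := by
        rw [pow_succ, pow_succ]
        generalize ((n : G) * g) ^ k = a
        generalize g ^ k = b
        group
      have hmem : ((n : G) * g) ^ (k + 1) * (g ^ (k + 1))⁻¹ ∈ N := by
        rw [e]
        exact N.mul_mem hk (cj N (g ^ k) n).2
      refine ⟨hmem, ?_⟩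
      have e' : (⟨((n : G) * g) ^ (k + 1) * (g ^ (k + 1))⁻¹, hmem⟩ : N) =
          ⟨((n : G) * g) ^ k * (g ^ k)⁻¹, hk⟩ * cj N (g ^ k) n := Subtype.ext e
      rw [e', map_mul, hνk, (h1 k).2, pow_succ]
  -- Step 3
  have hpowK : ∀ x : G, x ∉ N → x ^ N.index ∈ K := by
    intro x hx
    have hxo : x ^ N.index ∈ N := Subgroup.pow_index_mem N x
    refine hfpf x hx _ hxo ?_
    have : x * x ^ N.index * x⁻¹ * (x ^ N.index)⁻¹ = 1 := by
      rw [← pow_succ', pow_succ]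
      group
    rw [this]
    exact K.one_mem
  have hng : (n : G) * g ∉ N := by
    intro h
    apply hg
    have := N.mul_mem (N.inv_mem n.2) h
    simpa using this
  obtain ⟨hQo, hνQ⟩ := hQ N.index
  have hQK : ((n : G) * g) ^ N.index * (g ^ N.index)⁻¹ ∈ K :=
    K.mul_mem (hpowK _ hng) (K.inv_mem (hpowK g hg))
  have h3 : ν n ^ N.index = 1 := by
    rw [← hνQ]
    exact hνK _ hQK
  -- Step 4
  have h4 : ν n ^ K.relIndex N = 1 := by
    have h : n ^ (K.subgroupOf N).index ∈ K.subgroupOf N := Subgroup.pow_index_mem _ n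
    rw [← map_pow]
    apply hνK
    rw [Subgroup.mem_subgroupOf] at h
    exact h
  -- Step 5
  have h5 : orderOf (ν n) ∣ 1 := by
    have := Nat.dvd_gcd (orderOf_dvd_of_pow_eq_one h3) (orderOf_dvd_of_pow_eq_one h4)
    rwa [hcop] at this
  exact orderOf_eq_one_iff.mp (Nat.dvd_one.mp h5)

/-- linear characters of a finite abelian group separate points -/
theorem exists_hom_ne_one {A : Type u} [Group A] [Finite A] (hA : ∀ a b : A, a * b = b * a)
    (a : A) (ha : a ≠ 1) : ∃ lam : A →* ℂˣ, lam a ≠ 1 := by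
  letI : CommGroup A := { (inferInstance : Group A) with mul_comm := hA }
  exact CommGroup.exists_apply_ne_one_of_hasEnoughRootsOfUnity A ℂ ha

/-- a linear character of `N / K` not trivial at `n ∉ K` -/
theorem exists_hom_trivial_on [Finite G] (K : Subgroup G) [hK : K.Normal]
    (hNK : ∀ a ∈ N, ∀ b ∈ N, a * b * a⁻¹ * b⁻¹ ∈ K) (n : N) (hn : (n : G) ∉ K) :
    ∃ μ : N →* ℂˣ, (∀ x : N, (x : G) ∈ K → μ x = 1) ∧ μ n ≠ 1 := by
  have hq : ∀ x y : N ⧸ K.subgroupOf N, x * y = y * x := by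
    intro x y
    obtain ⟨x, rfl⟩ := QuotientGroup.mk_surjective x
    obtain ⟨y, rfl⟩ := QuotientGroup.mk_surjective y
    rw [← QuotientGroup.mk_mul, ← QuotientGroup.mk_mul, QuotientGroup.eq]
    rw [Subgroup.mem_subgroupOf]
    have h := hNK y⁻¹ (N.inv_mem y.2) x⁻¹ (N.inv_mem x.2)
    have e : (((x * y)⁻¹ * (y * x) : N) : G) = (y : G)⁻¹ * (x : G)⁻¹ * (y : G)⁻¹⁻¹ * (x : G)⁻¹⁻¹ := by
      push_cast
      group
    rw [e]
    exact h
  have hne : (QuotientGroup.mk n : N ⧸ K.subgroupOf N) ≠ 1 := by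
    intro h
    apply hn
    have := (QuotientGroup.eq_one_iff n).mp h
    rwa [Subgroup.mem_subgroupOf] at this
  obtain ⟨l, hl⟩ := exists_hom_ne_one hq _ hne
  refine ⟨l.comp (QuotientGroup.mk' (K.subgroupOf N)), ?_, hl⟩
  intro x hx
  show l (QuotientGroup.mk x) = 1
  rw [(QuotientGroup.eq_one_iff x).mpr (by rw [Subgroup.mem_subgroupOf]; exact hx), map_one]

/-- the function on `N` of a linear character -/
def lamF (μ : N →* ℂˣ) : N → ℂ := fun n => ((μ n : ℂˣ) : ℂ)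

theorem lamF_apply (μ : N →* ℂˣ) (n : N) : lamF N μ n = ((μ n : ℂˣ) : ℂ) := rfl

theorem lamF_one (μ : N →* ℂˣ) : lamF N μ 1 = 1 := by
  rw [lamF_apply, map_one]
  rfl

theorem lamF_isCharacter (μ : N →* ℂˣ) : Cfsg.IsCharacter N (lamF N μ) :=
  Cfsg.Agent.Lib.Helper15.isCharacter_of_hom μ

/-- **Isaacs 12.4** (abelian complement). -/
theorem frob_deg [Finite G] (K : Subgroup G) [hK : K.Normal]
    (hNK : ∀ a ∈ N, ∀ b ∈ N, a * b * a⁻¹ * b⁻¹ ∈ K)
    (hGN : ∀ a b : G, a * b * a⁻¹ * b⁻¹ ∈ N)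
    (hfpf : ∀ g : G, g ∉ N → ∀ n ∈ N, g * n * g⁻¹ * n⁻¹ ∈ K → n ∈ K)
    (hcop : N.index.Coprime (K.relIndex N))
    (ψ : N → ℂ) (hψ : Cfsg.IsIrrCharacter N ψ) :
    (∃ χ : G → ℂ, Cfsg.IsIrrCharacter G χ ∧
        Cfsg.charDegree χ = N.index * Cfsg.charDegree ψ) ∨
      ((∀ μ : N →* ℂˣ, (∀ x : N, (x : G) ∈ K → μ x = 1) → lamF N μ * ψ = ψ) ∧
        ∀ n : N, (n : G) ∉ K → ψ n = 0) := by
  classical
  haveI := Fintype.ofFinite G
  haveI : Fintype N := Fintype.ofFinite N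
  have hψc : Cfsg.IsCharacter N ψ := isCharacter_of_irr hψ
  have hψcl : Cfsg.IsClassFunction N ψ := isClassFunction_of_isCharacter hψc
  by_cases hex : ∃ μ : N →* ℂˣ, (∀ x : N, (x : G) ∈ K → μ x = 1) ∧
      ∀ g : G, conjChar N (lamF N μ * ψ) g = lamF N μ * ψ → g ∈ N
  · left
    obtain ⟨μ, -, hμ⟩ := hex
    have hψ' : Cfsg.IsIrrCharacter N (lamF N μ * ψ) :=
      Cfsg.Agent.Lib.Helper15.isIrrCharacter_lin_mul
        (lamF_isCharacter N μ) (lamF_one N μ) hψ
    have hcl' : Cfsg.IsClassFunction N (lamF N μ * ψ) :=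
      isClassFunction_of_isCharacter (isCharacter_of_irr hψ')
    have hT : ∀ g : G, g ∈ N ↔ conjChar N (lamF N μ * ψ) g = lamF N μ * ψ :=
      fun g => ⟨fun hg => conjChar_of_mem N hcl' hg, hμ g⟩
    have hirr := Cfsg.Agent.Lib.Helper82.clifford_induced_irr N N (le_refl N) hψ' hT hψ' (by
      show Cfsg.classInner (lamF N μ * ψ) (lamF N μ * ψ) ≠ 0
      rw [classInner_irr_self hψ']
      exact one_ne_zero)
    refine ⟨Cfsg.indFun N (lamF N μ * ψ), hirr, ?_⟩
    have h1 : Cfsg.indFun N (lamF N μ * ψ) 1 = (N.index : ℂ) * (lamF N μ * ψ) 1 :=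
      indFun_one N _
    have h2 : (lamF N μ * ψ) 1 = ψ 1 := by
      simp [lamF]
    have h3 := char_one_eq_charDegree (isCharacter_of_irr hirr)
    have h4 := char_one_eq_charDegree hψc
    rw [h3, h2, h4] at h1
    exact_mod_cast h1
  · right
    push Not at hex
    have hinv : ∀ μ : N →* ℂˣ, (∀ x : N, (x : G) ∈ K → μ x = 1) →
        ∃ g : G, g ∉ N ∧ ∀ n : N,
          ((μ (cj N g n) : ℂˣ) : ℂ) * ψ (cj N g n) = ((μ n : ℂˣ) : ℂ) * ψ n := by
      intro μ hμ
      obtain ⟨g, hg, hgN⟩ := hex μ hμ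
      refine ⟨g, hgN, ?_⟩
      have h : g ∈ inertia N (lamF N μ * ψ) := hg
      rw [mem_inertia_iff'] at h
      exact h
    obtain ⟨g₀, hg₀, h0⟩ := hinv 1 (by simp)
    have h0' : ∀ n : N, ψ (cj N g₀ n) = ψ n := by
      intro n
      simpa using h0 n
    have key : ∀ μ : N →* ℂˣ, (∀ x : N, (x : G) ∈ K → μ x = 1) →
        ∀ n : N, ψ n ≠ 0 → μ n = 1 := by
      intro μ hμ
      obtain ⟨g, hg, h1⟩ := hinv μ hμ
      let ν : N →* ℂˣ := μ * (μ.comp (cjHom N g))⁻¹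
      have hνn : ∀ n : N, ν n = μ n * (μ (cj N g n))⁻¹ := fun n => rfl
      have hνK : ∀ n : N, (n : G) ∈ K → ν n = 1 := by
        intro n hn
        have hc : ((cj N g n : N) : G) ∈ K := hK.conj_mem _ hn g
        rw [hνn, hμ n hn, hμ _ hc]
        simp
      -- (E1')
      have hE : ∀ n : N, ψ (cj N g n) = ((ν n : ℂˣ) : ℂ) * ψ n := by
        intro n
        have h := h1 n
        rw [hνn]
        have hne : ((μ (cj N g n) : ℂˣ) : ℂ) ≠ 0 := Units.ne_zero _
        push_cast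
        field_simp
        linear_combination h
      -- commutation
      have hcomm : ∀ n : N, ψ (cj N g (cj N g₀ n)) = ψ (cj N g₀ (cj N g n)) := by
        intro n
        have hc : g * g₀ * g⁻¹ * g₀⁻¹ ∈ N := hGN g g₀
        have e : cj N g (cj N g₀ n) = cj N (g * g₀ * g⁻¹ * g₀⁻¹) (cj N g₀ (cj N g n)) := by
          apply Subtype.ext
          simp only [cj_coe]
          group
        rw [e, cj_of_mem N hψcl hc]
      have hν' : ∀ n : N, ψ n ≠ 0 → ν (cj N g₀ n) = ν n := by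
        intro n hn
        have hL : ψ (cj N g (cj N g₀ n)) = ((ν (cj N g₀ n) : ℂˣ) : ℂ) * ψ n := by
          rw [hE, h0']
        have hR : ψ (cj N g₀ (cj N g n)) = ((ν n : ℂˣ) : ℂ) * ψ n := by
          rw [h0', hE]
        have h := hcomm n
        rw [hL, hR] at h
        exact Units.ext (mul_right_cancel₀ hn h)
      have hA := kl N K hfpf hcop g₀ hg₀ ψ h0' ν hνK hν'
      have hψg : ∀ n : N, ψ (cj N g n) = ψ n := by
        intro n
        by_cases hn : ψ n = 0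
        · rw [hE, hn, mul_zero]
        · rw [hE, hA n hn]
          simp
      have hμ' : ∀ n : N, ψ n ≠ 0 → μ (cj N g n) = μ n := by
        intro n hn
        have h := hA n hn
        rw [hνn] at h
        exact (mul_inv_eq_one.mp h).symm
      exact kl N K hfpf hcop g hg ψ hψg μ hμ hμ'
    refine ⟨?_, ?_⟩
    · intro μ hμ
      funext n
      by_cases hn : ψ n = 0
      · simp [hn]
      · simp [lamF, key μ hμ n hn]
    · intro n hn
      by_contra hne
      obtain ⟨μ, hμK, hμn⟩ := exists_hom_trivial_on N K hNK n hn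
      exact hμn (key μ hμK n hne)

/-- In the second alternative of `frob_deg`, if `N / K` is a nontrivial `p`-group then
`p ∣ ψ(1)`. -/
theorem dvd_degree_of_lam_mul [Finite G] (K : Subgroup G) [hK : K.Normal]
    (hNK : ∀ a ∈ N, ∀ b ∈ N, a * b * a⁻¹ * b⁻¹ ∈ K)
    (p r : ℕ) (hp : p.Prime) (hr : K.relIndex N = p ^ r) (hne : ∃ n : N, (n : G) ∉ K)
    (ψ : N → ℂ) (hψ : Cfsg.IsCharacter N ψ)
    (h : ∀ μ : N →* ℂˣ, (∀ x : N, (x : G) ∈ K → μ x = 1) → lamF N μ * ψ = ψ) :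
    p ∣ Cfsg.charDegree ψ := by
  obtain ⟨n, hn⟩ := hne
  obtain ⟨μ, hμK, hμn⟩ := exists_hom_trivial_on N K hNK n hn
  have h1 := h μ hμK
  have hd := Cfsg.Agent.Lib.Helper15.detChar_lin_mul
    (lamF_isCharacter N μ) (lamF_one N μ) hψ (Cfsg.charDegree ψ)
    (char_one_eq_charDegree hψ)
  have h2 : Cfsg.detChar (lamF N μ * ψ) n = Cfsg.detChar ψ n := by rw [h1]
  have hd' := congrFun hd n
  change Cfsg.detChar (lamF N μ * ψ) n = _ at hd'
  rw [h2] at hd'
  have hdet : Cfsg.detChar ψ n ≠ 0 := Cfsg.Agent.Lib.Helper15.detChar_ne_zero ψ n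
  have h3 : ((μ n : ℂˣ) : ℂ) ^ Cfsg.charDegree ψ = 1 := by
    have : ((μ n : ℂˣ) : ℂ) ^ Cfsg.charDegree ψ * Cfsg.detChar ψ n = 1 * Cfsg.detChar ψ n := by
      rw [one_mul]
      exact hd'.symm
    exact mul_right_cancel₀ hdet this
  have h3' : μ n ^ Cfsg.charDegree ψ = 1 := Units.ext (by push_cast; exact h3)
  have h4 : μ n ^ (p ^ r) = 1 := by
    have hmem : n ^ (K.subgroupOf N).index ∈ K.subgroupOf N := Subgroup.pow_index_mem _ n
    rw [← map_pow]
    apply hμK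
    rw [Subgroup.mem_subgroupOf] at hmem
    rw [← hr]
    exact hmem
  by_contra hndvd
  have hcop : Nat.Coprime (Cfsg.charDegree ψ) (p ^ r) :=
    Nat.Coprime.pow_right r ((Nat.Prime.coprime_iff_not_dvd hp).mpr hndvd).symm
  have h5 : orderOf (μ n) ∣ 1 := by
    have := Nat.dvd_gcd (orderOf_dvd_of_pow_eq_one h3') (orderOf_dvd_of_pow_eq_one h4)
    rwa [hcop] at this
  exact hμn (orderOf_eq_one_iff.mp (Nat.dvd_one.mp h5))

end Cfsg.Agent.Lib.Helper80.ThreeDeg
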